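import Cfsg.Agent.OOT.TenE
import Cfsg.Agent.S1453
import Cfsg.Agent.S1455

set_option autoImplicit false

/-! BG 10.8 -/

namespace Cfsg.Agent.OOT

open Subgroup
open Cfsg.Agent.L (cj nz SylIn)
open Cfsg.Agent.H14 (IsPiSub)
open scoped commutatorElement

universe u

section General

/-- a `p`-group with a maximal elementary abelian subgroup of order `p²` is narrow -/
theorem narrow_of_max_ea {R : Type u} [Group R] [Finite R] (p : ℕ) [hp : Fact p.Prime] (hp2 : p ≠ 2)
    (hR : IsPGroup p R) (E : Subgroup R) (hE : IsElementaryAbelian p E)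
    (hE2 : Nat.card E = p ^ 2)
    (hEmax : ∀ B : Subgroup R, IsElementaryAbelian p B → E ≤ B → B = E) : IsNarrow p R := by
  by_cases hr : PRankLE p 2 R
  · exact Or.inl hr
  right
  obtain ⟨h1, h2, -, h4, h5⟩ := Cfsg.Agent.S1453.result p hp2 hR hr E hE hE2 hEmax
  set T := centralizer ((Subgroup.closure {x : R | x ∈ Subgroup.upperCentralSeries R 2 ∧ x ^ p = 1} :
    Subgroup R) : Set R) with hT
  have hTn : T.Normal := inferInstance
  -- `E` contains every element of order `p` commuting with it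
  have hmem : ∀ x ∈ centralizer (E : Set R), x ^ p = 1 → x ∈ E := by
    intro x hx hxp
    have hle : E ≤ centralizer ((zpowers x : Subgroup R) : Set R) := by
      rw [Subgroup.le_centralizer_iff, Subgroup.zpowers_le]; exact hx
    have := hEmax _ (isEA_sup hE (isEA_zpowers hxp) hle) le_sup_left
    rw [← this]; exact mem_sup_right (Subgroup.mem_zpowers x)
  obtain ⟨x, hxE, hxT⟩ := SetLike.not_le_iff_exists.1 h1
  have hxp : x ^ p = 1 := hE.2 x hxE
  have hx1 : x ≠ 1 := fun h => hxT (h ▸ one_mem T)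
  set Z := Subgroup.closure {x : R | x ∈ Subgroup.center R ∧ x ^ p = 1} with hZ
  have hZc : Z ≤ Subgroup.center R := by
    rw [hZ, Subgroup.closure_le]; exact fun y hy => hy.1
  have hZE : Z ≤ E := by
    rw [hZ, Subgroup.closure_le]
    exact fun y hy => hmem y (Subgroup.center_le_centralizer _ hy.1) hy.2
  have hZT : Z ≤ T := hZc.trans (Subgroup.center_le_centralizer _)
  have hcz := card_zpowers_eq_prime hxp hx1
  have hxZ : zpowers x ⊓ T = ⊥ := by
    by_contra hne
    have h1 : Nat.card (zpowers x ⊓ T : Subgroup R) ∣ p := by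
      have := card_dvd_of_le (inf_le_left : zpowers x ⊓ T ≤ zpowers x)
      rwa [hcz] at this
    rcases (Nat.dvd_prime hp.out).1 h1 with h | h
    · exact hne (Subgroup.card_eq_one.1 h)
    · have := L.eq_of_le_of_card_le (inf_le_left : zpowers x ⊓ T ≤ zpowers x) (by rw [h, hcz])
      exact hxT ((this.symm.le (Subgroup.mem_zpowers x)).2)
  have hEeq : zpowers x ⊔ Z = E := by
    have hle : zpowers x ⊔ Z ≤ E := sup_le (Subgroup.zpowers_le.2 hxE) hZE
    apply L.eq_of_le_of_card_le hle
    have hn : Z ≤ normalizer ((zpowers x : Subgroup R) : Set R) :=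
      hZc.trans ((Subgroup.center_le_centralizer _).trans (centralizer_le_normalizer _))
    have := H1.card_sup_mul_card_inf_of_le_normalizer hn
    have hinf : zpowers x ⊓ Z = ⊥ := le_bot_iff.1 ((inf_le_inf_left _ hZT).trans hxZ.le)
    rw [hinf, Subgroup.card_bot, mul_one, hcz, h2] at this
    rw [this, hE2, sq]
  -- centralizer of `x`
  have hcE : centralizer ((zpowers x : Subgroup R) : Set R) = centralizer (E : Set R) := by
    apply le_antisymm
    · rw [Subgroup.le_centralizer_iff, ← hEeq]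
      refine sup_le ?_ ?_
      · rw [Subgroup.le_centralizer_iff]
      · exact hZc.trans (Subgroup.center_le_centralizer _)
    · exact Subgroup.centralizer_le (Subgroup.zpowers_le.2 hxE)
  refine ⟨zpowers x, centralizer (E : Set R) ⊓ T, hcz, ?_, ?_, ?_, ?_⟩
  · -- cyclic
    apply isCyclic_of_pRankLE_one hp2 (hR.to_subgroup _)
    by_contra hr1
    obtain ⟨B, hB, hBEA, hBc⟩ := exists_ea_of_not_pRankLE hr1
    have hBZ : B ≤ E ⊓ T := fun b hb => ⟨hmem b (hB hb).1 (hBEA.2 b hb), (hB hb).2⟩
    have hlt : E ⊓ T < E := by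
      refine lt_of_le_of_ne inf_le_left (fun h => hxT ?_)
      exact (h.symm.le hxE).2
    have h3 := L.card_lt_of_lt hlt
    have h4 := L.card_le_of_le hBZ
    rw [hBc] at h4
    rw [hE2] at h3
    exact absurd (lt_of_le_of_lt h4 h3) (lt_irrefl _)
  · exact le_bot_iff.1 ((inf_le_inf_left _ inf_le_right).trans hxZ.le)
  · rintro a ha b ⟨hb, -⟩
    rw [← hcE] at hb
    exact (Subgroup.mem_centralizer_iff.1 hb a ha)
  · -- generate the centralizer
    rw [hcE]
    have hxc : zpowers x ≤ centralizer (E : Set R) := by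
      rw [← hcE, Subgroup.le_centralizer_iff_isMulCommutative]
      infer_instance
    apply le_antisymm (sup_le hxc inf_le_left)
    intro c hc
    -- `R = T ⟨x⟩`
    have htop : T ⊔ zpowers x = ⊤ := by
      have hc1 := Subgroup.relIndex_sup_left (H := zpowers x) (K := T)
      have hle : T ⊔ zpowers x ≤ ⊤ := le_top
      have h6 : T.relIndex (T ⊔ zpowers x) * (T ⊔ zpowers x).index = p := by
        rw [Subgroup.relIndex_mul_index le_sup_left, h5]
      have h7 : T.relIndex (T ⊔ zpowers x) ≠ 1 := by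
        rw [Ne, Subgroup.relIndex_eq_one]
        intro h
        exact hxT (h (mem_sup_right (Subgroup.mem_zpowers x)))
      have h8 : T.relIndex (T ⊔ zpowers x) = p := by
        rcases (Nat.dvd_prime hp.out).1 (Dvd.intro _ h6) with h | h
        · exact absurd h h7
        · exact h
      rw [h8] at h6
      have h9 : (T ⊔ zpowers x).index = 1 :=
        Nat.eq_of_mul_eq_mul_left hp.out.pos (by rw [h6, mul_one])
      exact Subgroup.index_eq_one.1 h9
    obtain ⟨t, ht, y, hy, rfl⟩ := Subgroup.mem_sup_of_normal_left.1 (htop ▸ Subgroup.mem_top c :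
      c ∈ T ⊔ zpowers x)
    have hyc := hxc hy
    have htc : t ∈ centralizer (E : Set R) := by
      have := mul_mem hc (inv_mem hyc)
      rwa [mul_inv_cancel_right] at this
    exact mul_mem (mem_sup_right ⟨htc, ht⟩) (mem_sup_left hy)

theorem isNarrow_congr {R R' : Type*} [Group R] [Group R'] {p : ℕ} (e : R ≃* R')
    (h : IsNarrow p R) : IsNarrow p R' := by
  rcases h with h | ⟨R₀, R₁, h1, h2, h3, h4, h5⟩
  · exact Or.inl ((H10.pRankLE_congr e).1 h)
  · right
    refine ⟨R₀.map e.toMonoidHom, R₁.map e.toMonoidHom, ?_, ?_, ?_, ?_, ?_⟩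
    · rw [H10.card_map_equiv, h1]
    · exact ((e.subgroupMap R₁).isCyclic).1 h2
    · rw [← Subgroup.map_inf _ _ _ e.injective, h3, Subgroup.map_bot]
    · rintro _ ⟨a, ha, rfl⟩ _ ⟨b, hb, rfl⟩
      rw [← map_mul, ← map_mul, h4 a ha b hb]
    · rw [← Subgroup.map_sup, h5]
      ext x
      constructor
      · rintro ⟨y, hy, rfl⟩
        refine Subgroup.mem_centralizer_iff.2 ?_
        rintro _ ⟨z, hz, rfl⟩
        rw [← map_mul, ← map_mul, Subgroup.mem_centralizer_iff.1 hy z hz]
      · intro hx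
        refine ⟨e.symm x, Subgroup.mem_centralizer_iff.2 fun z hz => ?_, by simp⟩
        apply e.injective
        rw [map_mul, map_mul]
        simp only [MulEquiv.apply_symm_apply]
        exact Subgroup.mem_centralizer_iff.1 hx _ ⟨z, hz, rfl⟩

/-- a group with normal `p`-complements for all `p` is nilpotent -/
theorem isNilpotent_of_hasNormalPComplement {H : Type u} [Group H] [Finite H]
    (h : ∀ p : ℕ, p.Prime → p ∣ Nat.card H → HasNormalPComplement p H) : Group.IsNilpotent H := by
  classical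
  have h' : ∀ p : {p // p ∈ (Nat.card H).primeFactors}, ∃ N : Subgroup H, N.Normal ∧
      ¬ (p : ℕ) ∣ Nat.card N ∧ ∃ k : ℕ, N.index = (p : ℕ) ^ k := by
    rintro ⟨p, hp⟩
    obtain ⟨hp1, hp2, -⟩ := Nat.mem_primeFactors.1 hp
    haveI : Fact p.Prime := ⟨hp1⟩
    exact H2.hasNormalPComplement_iff.1 (h p hp1 hp2)
  choose N hN hN1 k hk using h'
  haveI : ∀ p, (N p).Normal := hN
  haveI : ∀ p : {p // p ∈ (Nat.card H).primeFactors}, Group.IsNilpotent (H ⧸ N p) := by
    rintro p
    haveI : Fact (p : ℕ).Prime := ⟨(Nat.mem_primeFactors.1 p.2).1⟩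
    exact (IsPGroup.of_card (p := p) (n := k p) (by rw [← Subgroup.index_eq_card, hk])).isNilpotent
  let f : H →* (∀ p, H ⧸ N p) := Pi.monoidHom fun p => QuotientGroup.mk' (N p)
  have hf : Function.Injective f := by
    rw [← MonoidHom.ker_eq_bot_iff, ← Subgroup.card_eq_one]
    by_contra hne
    obtain ⟨p, hp, hd⟩ := Nat.exists_prime_and_dvd hne
    have hpH : p ∈ (Nat.card H).primeFactors :=
      Nat.mem_primeFactors.2 ⟨hp, hd.trans (Subgroup.card_subgroup_dvd_card _), Nat.card_pos.ne'⟩
    apply hN1 ⟨p, hpH⟩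
    refine hd.trans (card_dvd_of_le ?_)
    intro x hx
    have := congrFun (MonoidHom.mem_ker.1 hx) ⟨p, hpH⟩
    exact (QuotientGroup.eq_one_iff x).1 this
  have e := MonoidHom.ofInjective hf
  exact H1.isNilpotent_of_equiv e.symm inferInstance

end General

variable {G : Type u} [Group G] [Finite G] (hG : IsMinSimpleOddOrder G)
include hG
variable {M : Subgroup G} (hM : IsCoatom M)
include hM

/-- for `p ∉ β(M)` the Sylow `p`-subgroups of `M` are narrow -/
theorem narrow_of_not_beta {p : ℕ} [hp : Fact p.Prime] (hpM : p ∣ Nat.card M)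
    (hpβ : p ∉ beta M) {P : Subgroup G} (hP : SylIn p P M) : IsNarrow p P := by
  by_cases hr : PRankLE p 2 M
  · exact Or.inl ((pRankLE_sylIn hP).2 hr)
  have hpα : p ∈ alpha M := ⟨hp.out, hr⟩
  have hni : ¬ IsIdealPrime p G := fun h => hpβ ⟨hpα, h⟩
  have hrG : ¬ PRankLE p 2 G := by
    intro h
    apply hr
    exact H10.pRankLE_of_injective M.subtype M.subtype_injective h
  unfold IsIdealPrime at hni
  push Not at hni
  obtain ⟨S, A, hAS, hA, hAc, hmax⟩ := hni hp.out hrG
  have hp2 := prime_ne_two hG hpM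
  have hSn : IsNarrow p (S : Subgroup G) := by
    apply narrow_of_max_ea p hp2 S.2 (A.subgroupOf S) (H10.elab_subgroupOf hA _)
      (by rw [H1.card_subgroupOf hAS, hAc])
    intro B hB hAB
    have h1 : A ≤ B.map (S : Subgroup G).subtype := by
      rw [← Subgroup.map_subgroupOf_eq_of_le hAS]
      exact Subgroup.map_mono hAB
    have h2 := hmax (B.map (S : Subgroup G).subtype) (Subgroup.map_subtype_le B)
      (H10.elab_map _ hB)
    have h3 : A = B.map (S : Subgroup G).subtype := by
      by_contra hne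
      exact h2 (lt_of_le_of_ne h1 hne)
    rw [h3, Subgroup.subgroupOf, Subgroup.comap_map_eq_self_of_injective (Subgroup.subtype_injective _)]
  have hPt : SylIn p P ⊤ := sylow_mem_sylIn hP
    (((mem_sigma_iff hG).1 (alpha_subset_sigma hG hM hpα)).2.2 P hP)
  obtain ⟨g, -, e⟩ := (L.sylIn_top S).exists_conj_eq hPt
  subst e
  exact isNarrow_congr ((MulAut.conj g).subgroupMap (S : Subgroup G)) hSn

theorem beta_struct {p : ℕ} [hp : Fact p.Prime] (hpM : p ∣ Nat.card M) (hpβ : p ∉ beta M) :
    HasNormalPComplement p ↥⁅M, M⁆ ∧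
      ∀ q : ℕ, q.Prime → q ∣ (pPrimeCore p ↥M).index → q ≤ p := by
  haveI : Group.IsSolvable M := coatom_sol hG hM
  obtain ⟨P, hP⟩ := L.exists_sylIn (p := p) M
  have hn : IsNarrow p ↥(hP.toSylow : Subgroup M) := by
    refine isNarrow_congr ?_ (narrow_of_not_beta hG hM hpM hpβ hP)
    exact (Subgroup.subgroupOfEquivOfLe hP.le).symm
  obtain ⟨h1, -, h3, -⟩ := Cfsg.Agent.S1455.result (G := M) (odd_sub hG M) p hpM hP.toSylow hn
    (fun _ => plength_one hG hM.1 p)
  refine ⟨?_, h1⟩
  have e : commutator M ≃* ↥⁅M, M⁆ :=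
    ((commutator M).equivMapOfInjective M.subtype M.subtype_injective).trans
      (MulEquiv.subgroupCongr (map_commutator_subtype M))
  exact (H2.hasNormalPComplement_congr e).1 h3

omit hG hM in
theorem beta_subset_alpha (M : Subgroup G) : beta M ⊆ alpha M := fun _ h => h.1

/-- every `β(M)'`-subgroup of `M'` is nilpotent -/
theorem beta'_nilpotent {H : Subgroup G} (hH : H ≤ ⁅M, M⁆)
    (hβ : ∀ p : ℕ, p.Prime → p ∣ Nat.card H → p ∉ beta M) : Group.IsNilpotent H := by
  apply isNilpotent_of_hasNormalPComplement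
  intro p hp hd
  haveI : Fact p.Prime := ⟨hp⟩
  have hpM : p ∣ Nat.card M := hd.trans (card_dvd_of_le (hH.trans (Subgroup.commutator_le_self M)))
  exact H2.HasNormalPComplement.of_le (beta_struct hG hM hpM (hβ p hp hd)).1 hH

/-- `M_β` is a Hall subgroup of `M`. -/
theorem betaCore_hall : IsPiHallOf (beta M) (piCoreOf (beta M) M) M := by
  have hDs : Group.IsSolvable ↥⁅M, M⁆ :=
    H1.isSolvable_of_le (Subgroup.commutator_le_self M) (coatom_sol hG hM)
  obtain ⟨B, hB⟩ := hallOf_exists hDs (beta M)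
  set D : Subgroup G := ⁅M, M⁆ with hD
  have hMD : M ≤ normalizer (D : Set G) := by
    have := le_normalizer_map_subtype (M := M) (K := commutator M) inferInstance
    rwa [map_commutator_subtype] at this
  set N : Subgroup G := D ⊓ ⨅ q : {q : ℕ // q.Prime ∧ q ∣ Nat.card M ∧ q ∉ beta M},
    piCoreOf {r | r ≠ (q : ℕ)} D with hN
  have hBN : B ≤ N := by
    refine le_inf hB.1 (le_iInf ?_)
    rintro ⟨q, hq, hqM, hqβ⟩
    haveI : Fact q.Prime := ⟨hq⟩
    obtain ⟨K, hK, hK1, k, hk⟩ := H2.hasNormalPComplement_iff.1 (beta_struct hG hM hqM hqβ).1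
    have h1 : K.map D.subtype ≤ piCoreOf {r | r ≠ q} D := by
      refine le_piCoreOf (Subgroup.map_subtype_le K) (le_normalizer_map_subtype hK) ?_
      rintro r hr hd rfl
      rw [H1.card_map_subtype] at hd
      exact hK1 hd
    refine le_trans ?_ h1
    -- B has order prime to q
    have hBq : B.subgroupOf D ≤ K := by
      rw [← Subgroup.relIndex_eq_one]
      have hd1 : K.relIndex (B.subgroupOf D) ∣ q ^ k := hk ▸ Subgroup.relIndex_dvd_index_of_normal _ _
      have hd2 : K.relIndex (B.subgroupOf D) ∣ Nat.card B := by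
        have := Subgroup.relIndex_dvd_card K (B.subgroupOf D)
        rwa [H1.card_subgroupOf hB.1] at this
      obtain ⟨l, -, hl⟩ := (Nat.dvd_prime_pow hq).1 hd1
      rcases Nat.eq_zero_or_pos l with rfl | hl0
      · simpa using hl
      · exfalso
        exact hqβ (hB.2.1 q hq ((dvd_pow_self q hl0.ne').trans (hl ▸ hd2)))
    rw [← Subgroup.map_subgroupOf_eq_of_le hB.1]
    exact Subgroup.map_mono hBq
  have hNβ : IsPiSub (beta M) N := by
    intro q hq hd
    by_contra hqβ
    have hqM : q ∣ Nat.card M :=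
      hd.trans (card_dvd_of_le (inf_le_left.trans (Subgroup.commutator_le_self M)))
    have h1 : N ≤ piCoreOf {r | r ≠ q} D :=
      inf_le_right.trans (iInf_le _ (⟨q, hq, hqM, hqβ⟩ : {q : ℕ // q.Prime ∧ q ∣ Nat.card M ∧ q ∉ beta M}))
    exact isPiSub_piCoreOf {r | r ≠ q} D q hq (hd.trans (card_dvd_of_le h1)) rfl
  have hNB : N = B := (L.eq_of_le_of_card_le hBN (IsPiHallOf.card_le hB inf_le_left hNβ)).symm
  have hMN : M ≤ normalizer (N : Set G) := by
    intro g hg
    refine L.mem_nz_iff.2 ?_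
    have hgD : cj g D = D := L.mem_nz_iff.1 (hMD hg)
    have key : ∀ g ∈ M, cj g N ≤ N := by
      intro g hg
      have hgD : cj g D = D := L.mem_nz_iff.1 (hMD hg)
      refine le_inf ?_ (le_iInf fun q => ?_)
      · rw [← hgD]; exact L.cj_mono inf_le_left
      · rw [← hgD, ← cj_piCoreOf]
        exact L.cj_mono (inf_le_right.trans (iInf_le _ q))
    refine le_antisymm (key g hg) ?_
    have := key g⁻¹ (inv_mem hg)
    rw [← L.cj_le_cj (g := g), L.cj_cj_inv] at this
    exact this
  have hNM : N ≤ M := inf_le_left.trans (Subgroup.commutator_le_self M)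
  have hHall : IsPiHallOf (beta M) N M := by
    refine ⟨hNM, hNβ, ?_⟩
    intro p hp hpβ hd
    haveI : Fact p.Prime := ⟨hp⟩
    have hpσ := alpha_subset_sigma hG hM (beta_subset_alpha M hpβ)
    obtain ⟨P, hP⟩ := L.exists_sylIn (p := p) M
    have hPD := sigma_sylow_le_derived hG hM hpσ hP
    rw [← Subgroup.relIndex_mul_relIndex N D M inf_le_left (Subgroup.commutator_le_self M)] at hd
    rcases hp.dvd_mul.1 hd with hd | hd
    · rw [hNB] at hd
      exact hB.2.2 p hp hpβ hd
    · apply hP.not_dvd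
      rw [← Subgroup.relIndex_mul_relIndex P D M hPD (Subgroup.commutator_le_self M)]
      exact Dvd.dvd.mul_left hd _
  rwa [← IsPiHallOf.eq_piCoreOf hHall hMN]

end Cfsg.Agent.OOT
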