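import Cfsg.Agent.OOT.TenB
import Cfsg.Agent.H1.Coprime2
import Cfsg.Agent.S1398
import Cfsg.Agent.S1443

set_option autoImplicit false

/-! BG 10.3 - 10.5 -/

namespace Cfsg.Agent.OOT

open Subgroup
open Cfsg.Agent.L (cj nz SylIn)
open Cfsg.Agent.H14 (IsPiSub)
open scoped commutatorElement

universe u

section General
variable {G : Type u} [Group G]

/-- `Ω₁(Z(P))` -/
def omZ (p : ℕ) (P : Subgroup G) : Subgroup G where
  carrier := {x | (x ∈ P ∧ x ∈ centralizer (P : Set G)) ∧ x ^ p = 1}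
  one_mem' := ⟨⟨one_mem _, one_mem _⟩, one_pow _⟩
  mul_mem' := by
    rintro a b ⟨⟨ha1, ha2⟩, ha3⟩ ⟨⟨hb1, hb2⟩, hb3⟩
    refine ⟨⟨mul_mem ha1 hb1, mul_mem ha2 hb2⟩, ?_⟩
    have hc : Commute a b := (Subgroup.mem_centralizer_iff.1 hb2 a ha1)
    rw [hc.mul_pow, ha3, hb3, one_mul]
  inv_mem' := by
    rintro a ⟨⟨ha1, ha2⟩, ha3⟩
    exact ⟨⟨inv_mem ha1, inv_mem ha2⟩, by rw [inv_pow, ha3, inv_one]⟩

theorem mem_omZ {p : ℕ} {P : Subgroup G} {x : G} :
    x ∈ omZ p P ↔ (x ∈ P ∧ x ∈ centralizer (P : Set G)) ∧ x ^ p = 1 := Iff.rfl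

theorem omZ_le (p : ℕ) (P : Subgroup G) : omZ p P ≤ P := fun _ h => h.1.1

theorem omZ_le_centralizer (p : ℕ) (P : Subgroup G) : omZ p P ≤ centralizer (P : Set G) :=
  fun _ h => h.1.2

theorem isEA_omZ (p : ℕ) (P : Subgroup G) : IsElementaryAbelian p (omZ p P) := by
  refine ⟨⟨⟨?_⟩⟩, fun a ha => ha.2⟩
  rintro ⟨a, ha⟩ ⟨b, hb⟩
  exact Subtype.ext (Subgroup.mem_centralizer_iff.1 hb.1.2 a ha.1.1)

theorem cj_omZ (p : ℕ) (P : Subgroup G) (g : G) : cj g (omZ p P) = omZ p (cj g P) := by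
  ext x
  rw [L.mem_cj, mem_omZ, mem_omZ, L.mem_cj, L.cent_cj, L.mem_cj]
  have : (g⁻¹ * x * g) ^ p = 1 ↔ x ^ p = 1 := by
    have h : g⁻¹ * x * g = g⁻¹ * x * g⁻¹⁻¹ := by rw [inv_inv]
    rw [h, conj_pow]
    constructor
    · intro h2
      have := congrArg (fun y => g * y * g⁻¹) h2
      simpa [mul_assoc] using this
    · intro h2; rw [h2]; simp
  rw [this]

theorem normalizer_le_normalizer_omZ (p : ℕ) (P : Subgroup G) :
    normalizer (P : Set G) ≤ normalizer ((omZ p P : Subgroup G) : Set G) := by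
  intro g hg
  refine L.mem_nz_iff.2 ?_
  rw [cj_omZ, L.mem_nz_iff.1 hg]

theorem omZ_ne_bot [Finite G] {p : ℕ} [hp : Fact p.Prime] {P : Subgroup G} (hP : IsPGroup p P)
    (h : P ≠ ⊥) : omZ p P ≠ ⊥ := by
  haveI : Nontrivial P := (Subgroup.nontrivial_iff_ne_bot P).2 h
  have h1 := hP.center_nontrivial
  have hd : p ∣ Nat.card (Subgroup.center P) := by
    obtain ⟨n, hn⟩ := IsPGroup.iff_card.1 (hP.to_subgroup (Subgroup.center P))
    rw [hn]
    apply dvd_pow_self
    rintro rfl
    rw [pow_zero] at hn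
    have := Finite.one_lt_card (α := Subgroup.center P)
    omega
  obtain ⟨x, hx⟩ := exists_prime_orderOf_dvd_card' p hd
  intro hbot
  have h2 : ((x : P) : G) ∈ omZ p P := by
    refine ⟨⟨(x : P).2, ?_⟩, ?_⟩
    · rw [Subgroup.mem_centralizer_iff]
      intro y hy
      exact congrArg Subtype.val (Subgroup.mem_center_iff.1 x.2 ⟨y, hy⟩)
    · have : x ^ p = 1 := by rw [← hx]; exact pow_orderOf_eq_one x
      have := congrArg (fun z : Subgroup.center P => ((z : P) : G)) this
      simpa using this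
  rw [hbot, Subgroup.mem_bot] at h2
  have : x = 1 := Subtype.ext (Subtype.ext h2)
  rw [this, orderOf_one] at hx
  exact hp.out.one_lt.ne hx

/-- two subgroups of the same order of a cyclic group are equal -/
theorem eq_of_card_of_cyclic [Finite G] {C X Y : Subgroup G} (hC : IsCyclic C) (hX : X ≤ C)
    (hY : Y ≤ C) (h : Nat.card X = Nat.card Y) : X = Y := by
  classical
  haveI : Fintype C := Fintype.ofFinite _
  have key : ∀ X : Subgroup G, X ≤ C →
      (((X.subgroupOf C : Subgroup C) : Set C)).toFinset =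
        Finset.univ.filter (fun a : C => a ^ (Nat.card X) = 1) := by
    intro X hX
    apply Finset.eq_of_subset_of_card_le
    · intro a ha
      simp only [Set.mem_toFinset, SetLike.mem_coe, Subgroup.mem_subgroupOf] at ha
      simp only [Finset.mem_filter, Finset.mem_univ, true_and]
      apply Subtype.ext
      have := pow_card_eq_one' (G := X) (x := ⟨(a : G), ha⟩)
      have h2 := congrArg Subtype.val this
      exact h2
    · refine (IsCyclic.card_pow_eq_one_le Nat.card_pos).trans ?_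
      rw [Set.toFinset_card, ← Nat.card_eq_fintype_card]
      have := H1.card_subgroupOf hX
      exact this.ge
  have h2 : X.subgroupOf C = Y.subgroupOf C := by
    apply SetLike.coe_injective
    rw [← Set.toFinset_inj, key X hX, key Y hY, h]
  rw [← Subgroup.map_subgroupOf_eq_of_le hX, h2, Subgroup.map_subgroupOf_eq_of_le hY]

theorem centralizer_zpowers (x : G) :
    centralizer ((zpowers x : Subgroup G) : Set G) = centralizer ({x} : Set G) := by
  rw [Subgroup.zpowers_eq_closure, Subgroup.centralizer_closure]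

theorem exists_mem_ne_one {H : Subgroup G} (h : H ≠ ⊥) : ∃ x ∈ H, x ≠ 1 := by
  by_contra h'
  push Not at h'
  exact h ((Subgroup.eq_bot_iff_forall H).2 h')

theorem card_zpowers_eq_prime [Finite G] {p : ℕ} [hp : Fact p.Prime] {x : G} (h : x ^ p = 1)
    (h1 : x ≠ 1) : Nat.card (zpowers x) = p := by
  rw [Nat.card_zpowers]; exact orderOf_eq_prime h h1

end General

variable {G : Type u} [Group G] [Finite G] (hG : IsMinSimpleOddOrder G)
include hG

/-- an elementary abelian subgroup of order `p²` whose centralizer has rank at least three is a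
uniqueness subgroup -/
theorem ea2_uniq {p : ℕ} [hp : Fact p.Prime] {A : Subgroup G} (hA : IsElementaryAbelian p A)
    (hc : Nat.card A = p ^ 2) (h : ¬ PRankLE p 2 (centralizer (A : Set G))) :
    InUniqueMaximal A := by
  apply Cfsg.Agent.S1403.result hG A (pgroup_ne_top hG (isEA_isPGroup hA))
  · exact not_rankLE_of_sylow (le_refl A) (not_pRankLE_of_ea (le_refl A) hA hc.ge)
  · exact Or.inr (not_rankLE_of_sylow (le_refl _) h)

/-- if the elementary abelian `A` of order `p²` is not a uniqueness subgroup, then every element of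
order `p` (or 1) commuting with `A` is in `A`. -/
theorem mem_of_not_uniq {p : ℕ} [hp : Fact p.Prime] {A : Subgroup G} (hA : IsElementaryAbelian p A)
    (hc : Nat.card A = p ^ 2) (h : ¬ InUniqueMaximal A) {x : G} (hx : x ∈ centralizer (A : Set G))
    (hxp : x ^ p = 1) : x ∈ A := by
  by_contra hxA
  apply h
  apply ea2_uniq hG hA hc
  have hle : A ≤ centralizer ((zpowers x : Subgroup G) : Set G) := by
    rw [Subgroup.le_centralizer_iff, Subgroup.zpowers_le]
    exact hx
  have hB := isEA_sup hA (isEA_zpowers hxp) hle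
  have hlt : A < A ⊔ zpowers x := by
    refine lt_of_le_of_ne le_sup_left (fun e => hxA ?_)
    rw [e]; exact mem_sup_right (Subgroup.mem_zpowers x)
  have hcard : p ^ (2 + 1) ≤ Nat.card (A ⊔ zpowers x : Subgroup G) := by
    obtain ⟨n, hn⟩ := IsPGroup.iff_card.1 (isEA_isPGroup hB)
    have := L.card_lt_of_lt hlt
    rw [hn, hc] at this
    rw [hn]
    exact Nat.pow_le_pow_right hp.out.pos ((Nat.pow_lt_pow_iff_right hp.out.one_lt).1 this)
  refine not_pRankLE_of_ea ?_ hB hcard
  refine sup_le ?_ ((Subgroup.zpowers_le).2 hx)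
  rw [Subgroup.le_centralizer_iff_isMulCommutative]
  exact hA.1

variable {M : Subgroup G} (hM : IsCoatom M)
include hM

/-- BG 10.3 -/
theorem cent_alpha_uniq {X : Subgroup G} (hXM : X ≤ M)
    (hXα : ∀ p : ℕ, p.Prime → p ∣ Nat.card X → p ∉ alpha M)
    (hr : ¬ RankLE 1 ↥(alphaCore M ⊓ centralizer (X : Set G))) :
    InUniqueMaximal (M ⊓ centralizer (X : Set G)) := by
  obtain ⟨p, hp, hr⟩ := not_rankLE hr
  haveI : Fact p.Prime := ⟨hp⟩
  have hne : M ⊓ centralizer (X : Set G) ≠ ⊤ := fun h => hM.1 (top_le_iff.1 (h ▸ inf_le_left))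
  obtain ⟨A, hA, hAEA, hAc⟩ := exists_ea_of_not_pRankLE hr
  have hAM : A ≤ M ⊓ centralizer (X : Set G) := hA.trans (inf_le_inf_right _ (piCoreOf_le _ _))
  by_cases hu : InUniqueMaximal A
  · exact uniq_mono hu hAM hne
  have hpα : p ∈ alpha M := by
    apply isPiSub_piCoreOf (alpha M) M p hp
    exact (dvd_of_not_pRankLE hr).trans (card_dvd_of_le inf_le_left)
  have hpX : ¬ p ∣ Nat.card X := fun h => hXα p hp h hpα
  have hcop : (Nat.card X).Coprime (Nat.card (alphaCore M)) :=
    Nat.coprime_of_dvd fun q hq h1 h2 => hXα q hq h1 (isPiSub_piCoreOf (alpha M) M q hq h2)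
  have hXn : X ≤ normalizer ((alphaCore M : Subgroup G) : Set G) :=
    hXM.trans (le_normalizer_piCoreOf _ _)
  have hAX : X ≤ normalizer (A : Set G) := by
    refine le_trans ?_ (centralizer_le_normalizer _)
    rw [Subgroup.le_centralizer_iff]
    exact hA.trans inf_le_right
  obtain ⟨P₀, hAP, hPX⟩ := H1.exists_invariant_sylow_ge X (alphaCore M) hXn
    hcop (Or.inr (H1.isSolvable_of_le (piCoreOf_le _ _) (coatom_sol hG hM))) p A
    (hA.trans inf_le_left) (isEA_isPGroup hAEA) hAX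
  have hPS := L.sylIn_of_sylow P₀
  set P := (P₀ : Subgroup (alphaCore M)).map (alphaCore M).subtype with hP
  have hPM : SylIn p P M := by
    refine ⟨hPS.le.trans (piCoreOf_le _ _), hPS.isPGroup, fun hd => ?_⟩
    rw [← Subgroup.relIndex_mul_relIndex P _ M hPS.le (piCoreOf_le _ _)] at hd
    rcases hp.dvd_mul.1 hd with hd | hd
    · exact hPS.not_dvd hd
    · exact (alphaCore_hall hG hM).2.2 p hp hpα hd
  have hPr : ¬ PRankLE p 2 P := fun h => hpα.2 ((pRankLE_sylIn hPM).1 h)
  have hXP : X ≤ centralizer (P : Set G) := by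
    have hXodd : p ≠ 2 := prime_ne_two hG (dvd_of_not_pRankLE hr)
    apply Cfsg.Agent.S1443.result p hXodd P A X hPS.isPGroup hAP hAEA hPX
      (Nat.coprime_comm.1 ((Nat.Prime.coprime_iff_not_dvd hp).2 hpX))
    rintro x ⟨hxP, hxA⟩ hxo
    have hxA' : x ∈ A := mem_of_not_uniq hG hAEA hAc hu hxA (by rw [← hxo]; exact pow_orderOf_eq_one x)
    have hxX := (hA hxA').2
    intro y hy
    rw [Subgroup.mem_centralizer_iff]
    rintro _ rfl
    exact (Subgroup.mem_centralizer_iff.1 hxX y hy).symm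
  refine uniq_mono (sylow_uniq hG hPS.isPGroup hPr) (le_inf hPM.le ?_) hne
  rwa [Subgroup.le_centralizer_iff]

/-- `C_G(x)` for an α'-element `x` when `C_{M_α}(x)` is not a Z-group -/
theorem cent_alpha_only {x : G} (hxM : x ∈ M) (hx1 : x ≠ 1)
    (hxα : ∀ p : ℕ, p.Prime → p ∣ orderOf x → p ∉ alpha M)
    (hr : ¬ IsZGroup ↥(alphaCore M ⊓ centralizer ({x} : Set G))) :
    centralizer ({x} : Set G) ≤ M ∧ ∀ L' : Subgroup G, IsCoatom L' →
      centralizer ({x} : Set G) ≤ L' → L' = M := by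
  have e : centralizer ((zpowers x : Subgroup G) : Set G) = centralizer ({x} : Set G) :=
    OOT.centralizer_zpowers x
  have hr' : ¬ RankLE 1 ↥(alphaCore M ⊓ centralizer ((zpowers x : Subgroup G) : Set G)) := by
    rw [e]
    exact fun h => hr (isZGroup_of_rankLE_one (odd_sub hG _) h)
  have hu := cent_alpha_uniq hG hM (X := zpowers x) ((Subgroup.zpowers_le).2 hxM) (by
    rw [Nat.card_zpowers]; exact hxα) hr'
  rw [e] at hu
  have hne := centralizer_singleton_ne_top hG hx1
  exact ⟨uniq_le hu hM inf_le_left inf_le_right hne, fun L' hL hle =>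
    uniq_eq hu hM inf_le_left hL (inf_le_right.trans hle)⟩

/-- BG 10.4(?) = S1407 in subgroup form: for `p ∉ σ(M)` dividing `|M|`. -/
theorem exists_omZ_not_uniq {p : ℕ} [hp : Fact p.Prime] (hpM : p ∣ Nat.card M) (hpσ : p ∉ sigma M)
    {P : Subgroup G} (hP : SylIn p P M) :
    ∃ x ∈ omZ p P, x ≠ 1 ∧ ¬ (centralizer ({x} : Set G) ≤ M ∧ ∀ L' : Subgroup G, IsCoatom L' →
      centralizer ({x} : Set G) ≤ L' → L' = M) := by
  by_contra hcon
  push Not at hcon
  apply hpσ
  refine (mem_sigma_iff hG).2 ⟨hp.out, hpM, fun Q hQ => ?_⟩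
  have hP1 : P ≠ ⊥ := by
    rintro rfl
    apply hP.not_dvd
    rwa [Subgroup.relIndex_bot_left]
  have hZ1 := omZ_ne_bot hP.isPGroup hP1
  -- enough for `P`
  have main : normalizer (P : Set G) ≤ M := by
    by_cases hcyc : IsCyclic (omZ p P)
    · obtain ⟨x, hx, hx1⟩ := exists_mem_ne_one hZ1
      have hxe : zpowers x = omZ p P := by
        apply L.eq_of_le_of_card_le ((Subgroup.zpowers_le).2 hx)
        obtain ⟨⟨y, hy⟩, hgen⟩ := hcyc.exists_generator
        have h1 : Nat.card (omZ p P) = orderOf (⟨y, hy⟩ : omZ p P) :=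
          (orderOf_eq_card_of_forall_mem_zpowers hgen).symm
        rw [h1, card_zpowers_eq_prime hx.2 hx1]
        apply Nat.le_of_dvd hp.out.pos
        rw [orderOf_dvd_iff_pow_eq_one]
        exact Subtype.ext hy.2
      obtain ⟨h1, h2⟩ := hcon x hx hx1
      have e : centralizer ((omZ p P : Subgroup G) : Set G) = centralizer ({x} : Set G) := by
        rw [← hxe]; exact OOT.centralizer_zpowers x
      have hu : InUniqueMaximal (centralizer ({x} : Set G)) :=
        ⟨M, ⟨hM, h1⟩, fun L' hL => h2 L' hL.1 hL.2⟩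
      refine (normalizer_le_normalizer_omZ p P).trans
        ((normalizer_le_normalizer_centralizer _).trans ?_)
      rw [e]
      exact uniq_normalizer_le hG hu hM h1
    · have hu : InUniqueMaximal (omZ p P) := by
        refine Cfsg.Agent.S1398.result hG M hM p (omZ p P) ((omZ_le p P).trans hP.le)
          (isEA_omZ p P) hcyc (Or.inl fun b hb hb1 => (hcon b hb hb1).1)
      exact (normalizer_le_normalizer_omZ p P).trans
        (uniq_normalizer_le hG hu hM ((omZ_le p P).trans hP.le))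
  obtain ⟨m, hm, e⟩ := hP.exists_conj_eq hQ
  rw [← e]
  change nz _ ≤ M
  rw [L.nz_cj]
  have := L.cj_mono (g := m) main
  rwa [L.cj_eq_self_of_mem hm] at this

/-- BG 10.5(a) -/
theorem ea2_max_of_not_sigma {p : ℕ} [hp : Fact p.Prime] (hpσ : p ∉ sigma M) {A : Subgroup G}
    (hAM : A ≤ M) (hA : IsElementaryAbelian p A) (hc : Nat.card A = p ^ 2) :
    ¬ InUniqueMaximal A := by
  intro hu
  apply hpσ
  have hpM : p ∣ Nat.card M := (hc ▸ dvd_pow_self p two_ne_zero : p ∣ Nat.card A).trans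
    (card_dvd_of_le hAM)
  refine (mem_sigma_iff hG).2 ⟨hp.out, hpM, fun P hP => ?_⟩
  obtain ⟨g, hg, hle⟩ := hP.exists_conj_le (isEA_isPGroup hA) hAM
  have h2 : InUniqueMaximal P := uniq_mono (uniq_cj hu) hle (pgroup_ne_top hG hP.isPGroup)
  exact uniq_normalizer_le hG h2 hM hP.le

theorem ea_eq_of_not_sigma {p : ℕ} [hp : Fact p.Prime] (hpσ : p ∉ sigma M) {A : Subgroup G}
    (hAM : A ≤ M) (hA : IsElementaryAbelian p A) (hc : Nat.card A = p ^ 2) {B : Subgroup G}
    (hB : IsElementaryAbelian p B) (hAB : A ≤ B) : B = A := by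
  refine le_antisymm (fun x hx => ?_) hAB
  refine mem_of_not_uniq hG hA hc (ea2_max_of_not_sigma hG hM hpσ hAM hA hc) ?_ (hB.2 x hx)
  rw [Subgroup.mem_centralizer_iff]
  intro a ha
  exact congrArg Subtype.val (hB.1.is_comm.comm (⟨a, hAB ha⟩ : B) ⟨x, hx⟩)

omit hG hM in
theorem not_ideal_of_ea {p : ℕ} [hp : Fact p.Prime] {A : Subgroup G}
    (hA : IsElementaryAbelian p A) (hc : Nat.card A = p ^ 2)
    (h : ∀ B : Subgroup G, IsElementaryAbelian p B → A ≤ B → B = A) : ¬ IsIdealPrime p G := by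
  rintro ⟨-, -, h3⟩
  obtain ⟨S, hS⟩ := (isEA_isPGroup hA).exists_le_sylow
  obtain ⟨B, -, hB, hlt⟩ := h3 S A hS hA hc
  exact hlt.ne (h B hB hlt.le).symm

theorem pRankLE_two_of_not_sigma {p : ℕ} (hp : p.Prime) (hpσ : p ∉ sigma M) : PRankLE p 2 M := by
  by_contra h
  exact hpσ (alpha_subset_sigma hG hM ⟨hp, h⟩)

/-- BG 10.5(b) -/
theorem not_sigma_normalizer {p : ℕ} [hp : Fact p.Prime] (hpσ : p ∉ sigma M) {X : Subgroup G}
    (hX : Nat.card X = p) (hNX : normalizer (X : Set G) ≤ M) :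
    ¬ PRankLE p 1 M ∧ ∃ A : Subgroup G, IsElementaryAbelian p A ∧ Nat.card A = p ^ 2 ∧ X ≤ A := by
  have hXM : X ≤ M := le_normalizer.trans hNX
  have hXp : IsPGroup p X := IsPGroup.of_card (n := 1) (by rw [hX, pow_one])
  have hpM : p ∣ Nat.card M := hX ▸ card_dvd_of_le hXM
  obtain ⟨P, hP, hXP⟩ := L.exists_sylIn_ge hXp hXM
  have hp2 : p ≠ 2 := prime_ne_two hG hpM
  have hr1 : ¬ PRankLE p 1 M := by
    intro h1
    have hcyc : IsCyclic P := isCyclic_of_pRankLE_one hp2 hP.isPGroup ((pRankLE_sylIn hP).2 h1)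
    apply hpσ
    refine (mem_sigma_iff hG).2 ⟨hp.out, hpM, fun Q hQ => ?_⟩
    have hNP : normalizer (P : Set G) ≤ M := by
      refine le_trans (fun g hg => ?_) hNX
      refine L.mem_nz_iff.2 (eq_of_card_of_cyclic hcyc ?_ hXP (L.card_cj g X))
      have e := L.mem_nz_iff.1 hg
      rw [← e]; exact L.cj_mono hXP
    obtain ⟨m, hm, e⟩ := hP.exists_conj_eq hQ
    rw [← e]
    change nz _ ≤ M
    rw [L.nz_cj]
    have := L.cj_mono (g := m) hNP
    rwa [L.cj_eq_self_of_mem hm] at this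
  refine ⟨hr1, ?_⟩
  have hP1 : P ≠ ⊥ := by
    rintro rfl
    apply hP.not_dvd
    rwa [Subgroup.relIndex_bot_left]
  have hXEA : IsElementaryAbelian p X := by
    obtain ⟨x, hx, hx1⟩ : ∃ x ∈ X, x ≠ 1 := by
      by_contra h
      push Not at h
      have : X = ⊥ := (Subgroup.eq_bot_iff_forall X).2 h
      rw [this, Subgroup.card_bot] at hX
      exact hp.out.one_lt.ne hX
    have hxp : x ^ p = 1 := by
      have := pow_card_eq_one' (G := X) (x := ⟨x, hx⟩)
      rw [hX] at this
      simpa using congrArg Subtype.val this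
    have e : zpowers x = X := L.eq_of_le_of_card_le ((Subgroup.zpowers_le).2 hx)
      (by rw [card_zpowers_eq_prime hxp hx1, hX])
    exact e ▸ isEA_zpowers hxp
  by_cases hZX : omZ p P ≤ X
  · have hZ1 := omZ_ne_bot hP.isPGroup hP1
    have hZeq : omZ p P = X := by
      apply L.eq_of_le_of_card_le hZX
      have hdvd : Nat.card (omZ p P) ∣ p := by
        have := card_dvd_of_le hZX
        rwa [hX] at this
      rcases (Nat.dvd_prime hp.out).1 hdvd with h | h
      · exact absurd (Subgroup.card_eq_one.1 h) hZ1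
      · rw [hX, h]
    obtain ⟨A, hA, hAEA, hAc⟩ := exists_ea_of_not_pRankLE (fun h => hr1 ((pRankLE_sylIn hP).1 h))
    refine ⟨A, hAEA, hAc, fun x hx => ?_⟩
    have hxZ : x ∈ omZ p P := hZeq ▸ hx
    refine mem_of_not_uniq hG hAEA hAc (ea2_max_of_not_sigma hG hM hpσ (hA.trans hP.le) hAEA hAc)
      ?_ hxZ.2
    exact Subgroup.centralizer_le hA hxZ.1.2
  · obtain ⟨z, hz, hzX⟩ := SetLike.not_le_iff_exists.1 hZX
    have hz1 : z ≠ 1 := fun h => hzX (h ▸ one_mem X)
    have hle : X ≤ centralizer ((zpowers z : Subgroup G) : Set G) := by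
      rw [Subgroup.le_centralizer_iff, Subgroup.zpowers_le]
      exact Subgroup.centralizer_le hXP hz.1.2
    refine ⟨X ⊔ zpowers z, isEA_sup hXEA (isEA_zpowers hz.2) hle, ?_, le_sup_left⟩
    have hzn : zpowers z ≤ normalizer (X : Set G) := by
      refine le_trans ?_ (centralizer_le_normalizer _)
      rw [Subgroup.zpowers_le]
      exact Subgroup.centralizer_le hXP hz.1.2
    have hcz := card_zpowers_eq_prime hz.2 hz1
    have hinf : X ⊓ zpowers z = ⊥ := by
      by_contra hne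
      have h1 : Nat.card (X ⊓ zpowers z : Subgroup G) ∣ p := hcz ▸ card_dvd_of_le inf_le_right
      rcases (Nat.dvd_prime hp.out).1 h1 with h | h
      · exact hne (Subgroup.card_eq_one.1 h)
      · have := L.eq_of_le_of_card_le (inf_le_right : X ⊓ zpowers z ≤ zpowers z) (by rw [h, hcz])
        exact hzX ((this.symm.le (Subgroup.mem_zpowers z)).1)
    have := H1.card_sup_mul_card_inf_of_le_normalizer hzn
    rw [hinf, Subgroup.card_bot, mul_one, hX, hcz] at this
    rw [this, sq]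

end Cfsg.Agent.OOT
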