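import Cfsg.Agent.OOT.TenD
import Cfsg.Agent.H2.NComp
import Cfsg.Agent.S1461
import Cfsg.Agent.S1448

set_option autoImplicit false

/-! BG 10.7 -/

namespace Cfsg.Agent.OOT

open Subgroup
open Cfsg.Agent.L (cj nz SylIn)
open Cfsg.Agent.H14 (IsPiSub)
open scoped commutatorElement

universe u

section General
variable {G : Type u} [Group G] [Finite G]

theorem map_commutator_subtype (M : Subgroup G) : (commutator M).map M.subtype = ⁅M, M⁆ := by
  rw [commutator_def, Subgroup.map_commutator, ← MonoidHom.range_eq_map, Subgroup.range_subtype]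

theorem le_commutator_subgroupOf {H M : Subgroup G} (h : H ≤ ⁅M, M⁆) :
    H.subgroupOf M ≤ commutator M := by
  intro x hx
  have h1 : (x : G) ∈ ⁅M, M⁆ := h (Subgroup.mem_subgroupOf.1 hx)
  rw [← map_commutator_subtype M] at h1
  obtain ⟨y, hy, e⟩ := h1
  rwa [← Subtype.ext e]

/-- a complement inside `M`, in the group `M` -/
theorem IsComplIn.isComplement' {A B M : Subgroup G} (h : IsComplIn A B M) :
    Subgroup.IsComplement' (A.subgroupOf M) (B.subgroupOf M) := by
  obtain ⟨hA, hB, hinf, hmul⟩ := h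
  refine ⟨?_, ?_⟩
  · rintro ⟨⟨a, ha⟩, ⟨b, hb⟩⟩ ⟨⟨a', ha'⟩, ⟨b', hb'⟩⟩ e
    change a * b = a' * b' at e
    rw [SetLike.mem_coe, Subgroup.mem_subgroupOf] at ha hb ha' hb'
    have h1 : (a'⁻¹ * a : M) = b' * b⁻¹ := by
      rw [eq_mul_inv_iff_mul_eq, mul_assoc, e]; group
    have h2 : ((a'⁻¹ * a : M) : G) ∈ A ⊓ B :=
      ⟨A.mul_mem (A.inv_mem ha') ha, by rw [h1]; exact B.mul_mem hb' (B.inv_mem hb)⟩
    rw [hinf, Subgroup.mem_bot] at h2
    have h3 : (a'⁻¹ * a : M) = 1 := Subtype.ext h2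
    have h4 : a = a' := (inv_mul_eq_one.1 h3).symm
    rw [h3] at h1
    have h5 : b = b' := (mul_inv_eq_one.1 h1.symm).symm
    subst h4; subst h5; rfl
  · rintro ⟨m, hm⟩
    obtain ⟨a, ha, b, hb, e⟩ := hmul m hm
    exact ⟨⟨⟨⟨a, hA ha⟩, ha⟩, ⟨⟨b, hB hb⟩, hb⟩⟩, Subtype.ext e.symm⟩

end General

variable {G : Type u} [Group G] [Finite G] (hG : IsMinSimpleOddOrder G)
include hG

/-- a nontrivial Sylow subgroup `P` of `G` and a maximal subgroup over its normalizer -/
theorem exists_sigma_max {p : ℕ} [hp : Fact p.Prime] {P : Subgroup G} (hP : SylIn p P ⊤)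
    (hP1 : P ≠ ⊥) : ∃ M : Subgroup G, IsCoatom M ∧ normalizer (P : Set G) ≤ M ∧ p ∈ sigma M ∧
      SylIn p P M := by
  have hne := normalizer_ne_top hG hP1 (pgroup_ne_top hG hP.isPGroup)
  obtain ⟨M, hM, hNM⟩ := exists_coatom_ge hne
  have hPM : SylIn p P M := hP.of_le (le_normalizer.trans hNM) le_top
  refine ⟨M, hM, hNM, ⟨hp.out, ?_, hPM.toSylow, ?_⟩, hPM⟩
  · obtain ⟨n, hn⟩ := IsPGroup.iff_card.1 hP.isPGroup
    have : n ≠ 0 := by
      rintro rfl
      exact hP1 (Subgroup.card_eq_one.1 (by simpa using hn))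
    exact (hn ▸ dvd_pow_self p this : p ∣ Nat.card P).trans (card_dvd_of_le hPM.le)
  · rw [hPM.map_toSylow]; exact hNM

/-- BG 10.7(a), second part -/
theorem sylow_le_derived_normalizer {p : ℕ} [hp : Fact p.Prime] {P : Subgroup G}
    (hP : SylIn p P ⊤) :
    P ≤ ⁅normalizer (P : Set G), normalizer (P : Set G)⁆ := by
  by_cases hP1 : P = ⊥
  · rw [hP1]; exact bot_le
  obtain ⟨M, hM, hNM, hpσ, hPM⟩ := exists_sigma_max hG hP hP1
  haveI : Group.IsSolvable M := coatom_sol hG hM
  have h1 := (Cfsg.Agent.S1461.result (G := M) p (plength_one hG hM.1 p) hPM.toSylow).1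
    (le_commutator_subgroupOf (sigma_sylow_le_derived hG hM hpσ hPM))
  have h2 := Subgroup.map_mono (f := M.subtype) h1
  rw [hPM.map_toSylow, Subgroup.map_commutator] at h2
  refine h2.trans (Subgroup.commutator_mono ?_ ?_) <;>
  · rintro _ ⟨y, hy, rfl⟩
    refine L.mem_nz_iff.2 ?_
    have hy' : cj y (P.subgroupOf M) = P.subgroupOf M := L.mem_nz_iff.1 hy
    exact L.eq_of_le_of_card_le (cj_of_subgroupOf hPM.le hy'.le) (by rw [L.card_cj])

/-- BG 10.7(a), first part -/
theorem sylow_eq_commutator {p : ℕ} [hp : Fact p.Prime] {P V : Subgroup G}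
    (hP : SylIn p P ⊤) (hV : IsComplIn P V (normalizer (P : Set G))) : P = ⁅P, V⁆ := by
  by_cases hP1 : P = ⊥
  · rw [hP1, Subgroup.commutator_bot_left]
  have hne := normalizer_ne_top hG hP1 (pgroup_ne_top hG hP.isPGroup)
  set N := normalizer (P : Set G) with hN
  haveI : Group.IsSolvable N := sol hG hne
  have hPN : SylIn p P N := hP.of_le le_normalizer le_top
  have hn : (P.subgroupOf N).Normal := (Subgroup.normal_subgroupOf_iff_le_normalizer hPN.le).2 le_rfl
  have hcop : (Nat.card (P.subgroupOf N)).Coprime (P.subgroupOf N).index := by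
    rw [H1.card_subgroupOf hPN.le]
    exact IsPiHallOf.coprime (sylIn_iff_hallOf.1 hPN)
  have h1 := ((Cfsg.Agent.S1459.result (G := N)).1 (P.subgroupOf N) (V.subgroupOf N) hn hcop
    (IsComplIn.isComplement' hV) (le_commutator_subgroupOf (sylow_le_derived_normalizer hG hP))).1
  have h2 := congrArg (Subgroup.map N.subtype) h1
  rw [Subgroup.map_commutator, Subgroup.map_subgroupOf_eq_of_le hPN.le,
    Subgroup.map_subgroupOf_eq_of_le hV.2.1] at h2
  exact h2

/-- fusion in a Sylow subgroup -/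
theorem sylow_fusion {p : ℕ} [hp : Fact p.Prime] {P : Subgroup G} (hP : SylIn p P ⊤)
    {Q : Subgroup G} {x : G} (hQ : Q ≤ P) (hx : cj x Q ≤ P) :
    ∃ y ∈ normalizer (P : Set G), ∃ c ∈ centralizer (Q : Set G), x = y * c := by
  by_cases hP1 : P = ⊥
  · subst hP1
    have : Q = ⊥ := le_bot_iff.1 hQ
    subst this
    refine ⟨1, one_mem _, x, ?_, by rw [one_mul]⟩
    rw [Subgroup.mem_centralizer_iff]
    intro y hy
    rw [Subgroup.mem_bot.1 hy]; simp
  obtain ⟨M, hM, hNM, hpσ, hPM⟩ := exists_sigma_max hG hP hP1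
  haveI : Group.IsSolvable M := coatom_sol hG hM
  obtain ⟨m, hm, c, hc, rfl⟩ := sigma_group_trans hG hM hpσ (hP.isPGroup.to_le hQ)
    (hQ.trans hPM.le) (hx.trans hPM.le)
  have e : cj c Q = Q := L.mem_nz_iff.1 (centralizer_le_normalizer _ hc)
  rw [← L.cj_cj, e] at hx
  obtain ⟨g, hg, d, hd, e2⟩ := (Cfsg.Agent.S1461.result (G := M) p (plength_one hG hM.1 p)
    hPM.toSylow).2.1 (Q.subgroupOf M : Set M) ⟨m, hm⟩ (by
      intro y hy
      exact hQ hy) (by
      rintro _ ⟨y, hy, rfl⟩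
      exact hx (L.conj_mem_cj (g := m) hy))
  refine ⟨g, ?_, d * c, mul_mem ?_ hc, ?_⟩
  · refine L.mem_nz_iff.2 ?_
    have hy' : cj g (P.subgroupOf M) = P.subgroupOf M := L.mem_nz_iff.1 hg
    exact L.eq_of_le_of_card_le (cj_of_subgroupOf hPM.le hy'.le) (by rw [L.card_cj])
  · refine Subgroup.mem_centralizer_iff.2 fun y hy => ?_
    have := Subgroup.mem_centralizer_iff.1 hd ⟨y, hPM.le (hQ hy)⟩ hy
    exact congrArg Subtype.val this
  · have := congrArg Subtype.val e2
    change (g : G) * d = m at this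
    rw [← this]; group

/-- BG 10.7(d) -/
theorem sylow_inf_normalizer {p : ℕ} [hp : Fact p.Prime] {P : Subgroup G} (hP : SylIn p P ⊤)
    {Q : Subgroup G} (hQ : Q ≤ P) :
    ¬ p ∣ (P ⊓ normalizer (Q : Set G)).relIndex (normalizer (Q : Set G)) := by
  have hQp := hP.isPGroup.to_le hQ
  obtain ⟨T, hT, hQT⟩ := L.exists_sylIn_ge hQp (le_normalizer (H := Q))
  obtain ⟨x, -, hx⟩ := hP.exists_conj_le hT.isPGroup le_top
  have hxQ : cj x Q ≤ P := (L.cj_mono hQT).trans hx
  obtain ⟨y, hy, c, hc, e⟩ := sylow_fusion hG hP hQ hxQ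
  -- `y⁻¹ x = c` normalizes `Q`
  have h1 : cj (y⁻¹ * x) T ≤ P := by
    rw [← L.cj_cj, ← L.mem_nz_iff.1 (inv_mem hy : y⁻¹ ∈ nz P)]
    exact L.cj_mono hx
  have h2 : y⁻¹ * x = c := by rw [e]; group
  have hcN := centralizer_le_normalizer _ hc
  rw [h2] at h1
  have h3 : SylIn p (cj c T) (normalizer (Q : Set G)) := hT.cj_mem hcN
  intro hd
  apply h3.not_dvd
  rw [← Subgroup.relIndex_mul_relIndex (cj c T) (P ⊓ normalizer (Q : Set G)) _ (le_inf h1 h3.le)
    inf_le_right]
  exact Dvd.dvd.mul_left hd _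

/-- BG 10.7(e) -/
theorem normal_of_normal_sylow {p : ℕ} [hp : Fact p.Prime] {P : Subgroup G} (hP : SylIn p P ⊤)
    {R Q : Subgroup G} (hR : IsPGroup p R) (hQ : Q ≤ P ⊓ R)
    (hN : normalizer (P : Set G) ≤ normalizer (Q : Set G)) :
    normalizer (R : Set G) ≤ normalizer (Q : Set G) := by
  have hwc : ∀ g : G, cj g Q ≤ P → cj g Q = Q := by
    intro g hg
    obtain ⟨y, hy, c, hc, rfl⟩ := sylow_fusion hG hP (hQ.trans inf_le_left) hg
    rw [← L.cj_cj, L.mem_nz_iff.1 (centralizer_le_normalizer _ hc), L.mem_nz_iff.1 (hN hy)]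
  obtain ⟨x, -, hx⟩ := hP.exists_conj_le hR le_top
  have h1 : cj x Q = Q := hwc x ((L.cj_mono (hQ.trans inf_le_right)).trans hx)
  intro g hg
  have h2 : cj (x * g) Q = Q := by
    apply hwc
    rw [← L.cj_cj]
    refine le_trans (L.cj_mono ?_) hx
    rw [← L.mem_nz_iff.1 hg]
    exact L.cj_mono (hQ.trans inf_le_right)
  refine L.mem_nz_iff.2 ?_
  rw [← L.cj_cj] at h2
  have := congrArg (cj x⁻¹) h2
  rw [L.cj_inv_cj] at this
  rw [this, L.cj_eq_iff, inv_inv, h1]

omit hG in
/-- In a nonabelian group of order `p³` the centre is the derived subgroup. -/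
theorem center_eq_commutator_of_card_cube {p : ℕ} [hp : Fact p.Prime] {R : Subgroup G}
    (hc : Nat.card R = p ^ 3) (hna : ¬ IsMulCommutative R) :
    R ⊓ centralizer (R : Set G) = ⁅R, R⁆ := by
  have hRp : IsPGroup p R := IsPGroup.of_card hc
  -- work in the type
  have hRna : ¬ ∀ a b : R, a * b = b * a := fun h => hna ⟨⟨h⟩⟩
  have hZc : Nat.card (Subgroup.center R) = p := by
    have h1 : Nat.card (Subgroup.center R) ∣ p ^ 3 := hc ▸ Subgroup.card_subgroup_dvd_card _
    obtain ⟨k, hk, hk2⟩ := (Nat.dvd_prime_pow hp.out).1 h1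
    haveI : Nontrivial R := by
      rw [← Finite.one_lt_card_iff_nontrivial, hc]
      exact Nat.one_lt_pow (by norm_num) hp.out.one_lt
    have hnt := hRp.center_nontrivial
    have h2 : 1 < Nat.card (Subgroup.center R) := Finite.one_lt_card
    have hidx : (Subgroup.center R).index * p ^ k = p ^ 3 := by
      rw [← hk2, mul_comm, Subgroup.card_mul_index, hc]
    have hk0 : k ≠ 0 := by rintro rfl; rw [hk2] at h2; simp at h2
    have hcyc : ¬ IsCyclic (R ⧸ Subgroup.center R) := fun h =>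
      hRna (fun a b => by
        haveI := h
        exact commutative_of_cyclic_center_quotient (QuotientGroup.mk' (Subgroup.center R))
          (by rw [QuotientGroup.ker_mk']) a b)
    have hq : Nat.card (R ⧸ Subgroup.center R) = p ^ (3 - k) := by
      rw [← Subgroup.index_eq_card]
      have : p ^ 3 = p ^ (3 - k) * p ^ k := by rw [← pow_add]; congr 1; omega
      rw [this] at hidx
      exact Nat.eq_of_mul_eq_mul_right (pow_pos hp.out.pos k) hidx
    have hk1 : k = 1 := by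
      interval_cases k
      · exact absurd rfl hk0
      · rfl
      · exfalso; apply hcyc
        exact isCyclic_of_prime_card (p := p) (by rw [hq]; norm_num)
      · exfalso; apply hcyc
        haveI : Subsingleton (R ⧸ Subgroup.center R) := by
          apply (Nat.card_eq_one_iff_unique.1 _).1
          rw [hq]; norm_num
        exact isCyclic_of_subsingleton
    rw [hk2, hk1, pow_one]
  have hle : commutator R ≤ Subgroup.center R := by
    have hidx : Nat.card (R ⧸ Subgroup.center R) = p ^ 2 := by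
      rw [← Subgroup.index_eq_card]
      have := (Subgroup.center R).card_mul_index
      rw [hZc, hc] at this
      have h3 : p ^ 3 = p * p ^ 2 := by ring
      rw [h3] at this
      exact Nat.eq_of_mul_eq_mul_left hp.out.pos this
    have hcomm := IsPGroup.commutative_of_card_eq_prime_sq hidx
    rw [commutator_def, Subgroup.commutator_le]
    intro a _ b _
    rw [← QuotientGroup.eq_one_iff]
    have h4 : ((⁅a, b⁆ : R) : R ⧸ Subgroup.center R) = ⁅(a : R ⧸ Subgroup.center R), (b : R ⧸ Subgroup.center R)⁆ := rfl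
    rw [h4, commutatorElement_eq_one_iff_mul_comm]
    exact hcomm _ _
  have hne : commutator R ≠ ⊥ := by
    intro h
    apply hRna
    intro a b
    have : ⁅a, b⁆ ∈ (⊥ : Subgroup R) := by
      rw [← h]; exact Subgroup.commutator_mem_commutator (mem_top a) (mem_top b)
    rw [Subgroup.mem_bot, commutatorElement_eq_one_iff_mul_comm] at this
    exact this
  have heq : commutator R = Subgroup.center R := by
    apply L.eq_of_le_of_card_le hle
    have h1 : Nat.card (commutator R) ∣ p := hZc ▸ card_dvd_of_le hle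
    rcases (Nat.dvd_prime hp.out).1 h1 with h | h
    · exact absurd (Subgroup.card_eq_one.1 h) hne
    · rw [hZc, h]
  rw [← map_commutator_subtype, heq]
  ext x
  constructor
  · rintro ⟨hx, hxc⟩
    refine ⟨⟨x, hx⟩, ?_, rfl⟩
    refine Subgroup.mem_center_iff.2 fun y => Subtype.ext ?_
    exact Subgroup.mem_centralizer_iff.1 hxc y y.2
  · rintro ⟨y, hy, rfl⟩
    refine ⟨y.2, Subgroup.mem_centralizer_iff.2 fun z hz => ?_⟩
    exact congrArg Subtype.val (Subgroup.mem_center_iff.1 hy ⟨z, hz⟩)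

/-- BG 10.7(b) -/
theorem sylow_rank_two {p : ℕ} [hp : Fact p.Prime] {P : Subgroup G} (hP : SylIn p P ⊤)
    (hr : PRankLE p 2 P) :
    IsMulCommutative P ∨ ∃ P₁ P₂ : Subgroup G, P₁ ⊔ P₂ = P ∧ (∀ a ∈ P₁, ∀ b ∈ P₂, a * b = b * a) ∧
        ¬ IsMulCommutative P₁ ∧ Nat.card P₁ = p ^ 3 ∧ Monoid.exponent P₁ = p ∧ IsCyclic P₂ ∧
        Subgroup.closure {x : G | x ∈ P₂ ∧ x ^ p = 1} = P₁ ⊓ Subgroup.centralizer (P₁ : Set G) := by
  by_cases hP1 : P = ⊥
  · left
    subst hP1
    infer_instance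
  have hne := normalizer_ne_top hG hP1 (pgroup_ne_top hG hP.isPGroup)
  have hPN : SylIn p P (normalizer (P : Set G)) := hP.of_le le_normalizer le_top
  have hpd : p ∣ Nat.card P := by
    obtain ⟨n, hn⟩ := IsPGroup.iff_card.1 hP.isPGroup
    have : n ≠ 0 := by
      rintro rfl
      exact hP1 (Subgroup.card_eq_one.1 (by simpa using hn))
    exact hn ▸ dvd_pow_self p this
  obtain ⟨V, hV⟩ := hallOf_exists (sol hG hne) {q | q ≠ p}
  obtain ⟨hcompl, -⟩ := IsPiHallOf.isComplIn (π' := {q | q ≠ p})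
    (fun q hq => by simp) (sylIn_iff_hallOf.1 hPN) hV
  have hVp : (Nat.card V).Coprime p := by
    rw [Nat.coprime_comm, Nat.Prime.coprime_iff_not_dvd hp.out]
    intro hd
    exact hV.2.1 p hp.out hd rfl
  have h1 := Cfsg.Agent.S1448.result p (prime_ne_two hG hpd) P V hP.isPGroup hP1 hr hV.1
    hVp (odd_sub hG V) (sylow_eq_commutator hG hP hcompl).symm
  rcases h1.2 with h | ⟨R₁, R₂, h2, h3, h4, h5, h6, h7, h8⟩
  · exact Or.inl h
  · exact Or.inr ⟨R₁, R₂, h2, h3, h4, h5, h6, h7, by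
      rw [h8, center_eq_commutator_of_card_cube h5 h4]⟩

end Cfsg.Agent.OOT
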