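import Cfsg.Agent.OOT.RankTwo2
import Cfsg.Agent.OOT.PLen1
import Cfsg.Agent.H2.NComp

set_option autoImplicit false

/-! BG 4.18 -/

namespace Cfsg.Agent.OOT

open Subgroup
open scoped commutatorElement

universe u

theorem rank_two_structure {G : Type u} [Group G] [Finite G] (hs : Group.IsSolvable G)
    (hodd : Odd (Nat.card G)) (p : ℕ) [hp : Fact p.Prime] (hp2 : p ≠ 2) (hr : PRankLE p 2 G) :
    (∀ q : ℕ, q.Prime → q ∣ (pPrimeCore p G).index → q ≤ p) ∧
      ((p = 3 ∨ ∀ q : ℕ, q.Prime → q ∣ Nat.card G → p ≤ q) → HasNormalPComplement p G) ∧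
      HasNormalPComplement p ↥(commutator G) ∧
      (∀ L : Subgroup ↥(commutator G), (Nat.card L).Coprime p → L ≤ pPrimeCore p ↥(commutator G)) ∧
      commutator G ≤ pPrimePCore p G ∧ ((pPrimePCore p G).index).Coprime p := by
  haveI hNn : (pPrimeCore p G).Normal := H1.pPrimeCore_normal p G
  have hNc : (Nat.card (pPrimeCore p G)).Coprime p := H1.pPrimeCore_coprime p G
  have hNd : ¬ p ∣ Nat.card (pPrimeCore p G) := (Nat.Prime.coprime_iff_not_dvd hp.out).1 hNc.symm
  set N := pPrimeCore p G with hN
  have hodd' : Odd (Nat.card (G ⧸ N)) := hodd.of_dvd_nat (Subgroup.card_quotient_dvd_card N)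
  have hr' : PRankLE p 2 (G ⧸ N) :=
    pRankLE_of_surjective (QuotientGroup.mk' N) (QuotientGroup.mk'_surjective N)
      (by rw [QuotientGroup.ker_mk']; exact hNc) hr
  obtain ⟨h1, h2, h3⟩ := rank_two_core (K := G ⧸ N) (by haveI := hs; infer_instance) hodd' hp2 hr'
    (H1.pPrimeCore_quotient_eq_bot p)
  have ha : ∀ q : ℕ, q.Prime → q ∣ N.index → q ≤ p := fun q hq hqd => h3 q hq hqd
  have hmapc : (commutator G).map (QuotientGroup.mk' N) = commutator (G ⧸ N) := by
    rw [_root_.commutator_def, Subgroup.map_commutator, _root_.commutator_def]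
    rw [Subgroup.map_top_of_surjective _ (QuotientGroup.mk'_surjective N)]
  have hcp : IsPGroup p (commutator (G ⧸ N)) := (H1.pCore_isPGroup p _).to_le h1
  have hN'p : ∃ k, (N.subgroupOf (commutator G)).index = p ^ k := by
    have e := Subgroup.relIndex_ker (QuotientGroup.mk' N) (K := commutator G)
    rw [QuotientGroup.ker_mk', hmapc] at e
    obtain ⟨k, hk⟩ := IsPGroup.iff_card.1 hcp
    exact ⟨k, by rw [← hk, ← e]; rfl⟩
  have hN'c : ¬ p ∣ Nat.card (N.subgroupOf (commutator G)) := by
    intro hd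
    apply hNd
    refine hd.trans ?_
    have : Nat.card (N.subgroupOf (commutator G)) =
        Nat.card (N ⊓ commutator G : Subgroup G) := by
      rw [← Subgroup.subgroupOf_map_subtype, Subgroup.card_map_of_injective (commutator G).subtype_injective]
    rw [this]
    exact Subgroup.card_dvd_of_le inf_le_left
  haveI hN'n : (N.subgroupOf (commutator G)).Normal := inferInstance
  refine ⟨ha, ?_, ?_, ?_, ?_, ?_⟩
  · intro h
    rw [H2.hasNormalPComplement_iff]
    refine ⟨N, hNn, hNd, N.index.primeFactorsList.length,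
      Nat.eq_prime_pow_of_unique_prime_dvd N.index_ne_zero_of_finite ?_⟩
    intro q hq hqd
    have hqp := ha q hq hqd
    have hqG : q ∣ Nat.card G := hqd.trans N.index_dvd_card
    rcases h with rfl | h
    · have hq2 : q ≠ 2 := by
        rintro rfl
        exact (Nat.not_even_iff_odd.2 hodd) (even_iff_two_dvd.2 hqG)
      have := hq.two_le
      omega
    · exact le_antisymm hqp (h q hq hqG)
  · rw [H2.hasNormalPComplement_iff]
    exact ⟨_, hN'n, hN'c, hN'p⟩
  · intro L hL
    obtain ⟨k, hk⟩ := hN'p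
    have h4 : L ≤ N.subgroupOf (commutator G) := by
      intro x hx
      rw [H2.mem_normal_complement_iff hN'c hk]
      have h1 : orderOf x ∣ Nat.card L := by
        have := orderOf_dvd_natCard (⟨x, hx⟩ : L)
        rwa [Subgroup.orderOf_mk] at this
      exact Nat.Coprime.coprime_dvd_left h1 hL
    exact h4.trans (H1.le_pPrimeCore hN'n ((Nat.Prime.coprime_iff_not_dvd hp.out).2 hN'c).symm)
  · rw [pPrimePCore, ← Subgroup.map_le_iff_le_comap]
    show (commutator G).map (QuotientGroup.mk' N) ≤ _
    rw [hmapc]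
    exact h1
  · rw [pPrimePCore, Subgroup.index_comap_of_surjective _ (QuotientGroup.mk'_surjective _)]
    exact h2

end Cfsg.Agent.OOT
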