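import Cfsg.Agent.OOT.TenC
import Cfsg.Agent.H10.Sig4
import Cfsg.Agent.S1444
import Cfsg.Agent.S1459

set_option autoImplicit false

/-! BG 10.6: proper subgroups have `p`-length at most one -/

namespace Cfsg.Agent.OOT

open Subgroup
open Cfsg.Agent.L (cj nz SylIn)
open Cfsg.Agent.H14 (IsPiSub)
open scoped commutatorElement

universe u

/-- a normal subgroup of index prime to `p` with `p`-length one -/
theorem plength_one_of_normal {G : Type u} [Group G] [Finite G] {p : ℕ} [hp : Fact p.Prime]
    {N : Subgroup G} [N.Normal] (hi : (N.index).Coprime p) (h : PLengthLE p 1 N) :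
    PLengthLE p 1 G := by
  rw [plength_one_iff] at h
  haveI := H10.pPrimePCore_characteristic p N
  haveI : (pPrimeCore p N).Characteristic := inferInstance
  refine plength_one_of (N₁ := (pPrimeCore p N).map N.subtype)
    (N₂ := (pPrimePCore p N).map N.subtype) inferInstance inferInstance ?_ ?_ ?_
  · rw [H1.card_map_subtype]; exact H1.pPrimeCore_coprime p N
  · rw [Subgroup.relIndex_map_map_of_injective _ _ N.subtype_injective]
    exact relIndex_pPrimeCore_pPrimePCore p N
  · rw [Subgroup.index_map_subtype]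
    exact Nat.Coprime.mul_left h hi

variable {G : Type u} [Group G] [Finite G] (hG : IsMinSimpleOddOrder G)
include hG

theorem alpha_plength {M : Subgroup G} (hM : IsCoatom M) {p : ℕ} [hp : Fact p.Prime]
    (hpα : p ∈ alpha M) : PLengthLE p 1 M := by
  haveI hs : Group.IsSolvable M := coatom_sol hG hM
  -- a complement to `M_α`
  obtain ⟨K, hK⟩ := hallOf_exists hs {q | q.Prime ∧ q ∉ alpha M}
  have hA := alphaCore_hall hG hM
  obtain ⟨hcompl, hcard⟩ := IsPiHallOf.isComplIn (fun q hq => by simp [hq]) hA hK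
  set H : Subgroup M := piCore (alpha M) M with hH
  have hHn : H.Normal := inferInstance
  have hmap : H.map M.subtype = alphaCore M := rfl
  have hHc : Nat.card H = Nat.card (alphaCore M) := (H1.card_map_subtype H).symm
  have hHi : H.index = (alphaCore M).relIndex M := by
    rw [← hmap, Subgroup.relIndex, Subgroup.subgroupOf,
      Subgroup.comap_map_eq_self_of_injective M.subtype_injective]
  have hHcop : (Nat.card H).Coprime H.index := by
    rw [hHc, hHi]; exact IsPiHallOf.coprime hA
  have hC : Subgroup.IsComplement' H (K.subgroupOf M) := by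
    apply Subgroup.isComplement'_of_card_mul_and_disjoint
    · rw [hHc, H1.card_subgroupOf hK.1, hcard]
    · rw [disjoint_iff, eq_bot_iff]
      rintro ⟨x, hx⟩ ⟨hx1, hx2⟩
      have : x ∈ alphaCore M ⊓ K := ⟨⟨⟨x, hx⟩, hx1, rfl⟩, Subgroup.mem_subgroupOf.1 hx2⟩
      rw [hcompl.2.2.1, Subgroup.mem_bot] at this
      exact Subgroup.mem_bot.2 (Subtype.ext this)
  have hHd : H ≤ commutator M := by
    intro x hx
    have h1 : (x : G) ∈ ⁅M, M⁆ := by
      apply sigmaCore_le_derived hG hM
      apply alphaCore_le_sigmaCore hG hM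
      exact ⟨x, hx, rfl⟩
    have h2 : (commutator M).map M.subtype = ⁅M, M⁆ := by
      rw [commutator_def, Subgroup.map_commutator, ← MonoidHom.range_eq_map, Subgroup.range_subtype]
    rw [← h2] at h1
    obtain ⟨y, hy, e⟩ := h1
    rwa [← Subtype.ext e]
  have hHK := ((Cfsg.Agent.S1459.result (G := M)).1 H (K.subgroupOf M) hHn hHcop hC hHd).1
  -- a prime dividing `|M : M'|`
  have hMd : (commutator M).index ≠ 1 := by
    rw [Ne, Subgroup.index_eq_one]
    intro h
    haveI : Nontrivial M := (Subgroup.nontrivial_iff_ne_bot M).2 (coatom_ne_bot hG hM)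
    exact absurd h (IsSolvable.commutator_lt_top_of_nontrivial M).ne
  obtain ⟨q, hq, hqd⟩ := Nat.exists_prime_and_dvd hMd
  haveI : Fact q.Prime := ⟨hq⟩
  have hqM : q ∣ Nat.card M := hqd.trans (Subgroup.index_dvd_card _)
  have hqσ : q ∉ sigma M := by
    intro hqσ
    obtain ⟨Q, hQ⟩ := L.exists_sylIn (p := q) M
    have h1 := sigma_sylow_le_derived hG hM hqσ hQ
    apply hQ.not_dvd
    have h2 : (commutator M).index = (⁅M, M⁆ : Subgroup G).relIndex M := by
      have h2 : (commutator M).map M.subtype = ⁅M, M⁆ := by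
        rw [commutator_def, Subgroup.map_commutator, ← MonoidHom.range_eq_map,
          Subgroup.range_subtype]
      rw [← h2, Subgroup.relIndex, Subgroup.subgroupOf,
        Subgroup.comap_map_eq_self_of_injective M.subtype_injective]
    rw [h2] at hqd
    rw [← Subgroup.relIndex_mul_relIndex Q _ M h1 (Subgroup.commutator_le_self M)]
    exact Dvd.dvd.mul_left hqd _
  have hqα : q ∉ alpha M := fun h => hqσ (alpha_subset_sigma hG hM h)
  obtain ⟨Q, hQ⟩ := L.exists_sylIn (p := q) K
  have hQM : SylIn q Q M := by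
    refine ⟨hQ.le.trans hK.1, hQ.isPGroup, fun hd => ?_⟩
    rw [← Subgroup.relIndex_mul_relIndex Q _ M hQ.le hK.1] at hd
    rcases hq.dvd_mul.1 hd with hd | hd
    · exact hQ.not_dvd hd
    · exact hK.2.2 q hq ⟨hq, hqα⟩ hd
  obtain ⟨x, hx, hx1, hxn⟩ := exists_omZ_not_uniq hG hM hqM hqσ hQM
  have hxK : x ∈ K := hQ.le hx.1.1
  have hxM : x ∈ M := hK.1 hxK
  have hxo : orderOf x = q := orderOf_eq_prime hx.2 hx1
  have hZ : IsZGroup ↥(alphaCore M ⊓ centralizer ({x} : Set G)) := by
    by_contra hZ
    exact hxn (cent_alpha_only hG hM hxM hx1 (by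
      intro r hr hd
      rw [hxo] at hd
      rwa [(Nat.prime_dvd_prime_iff_eq hr hq).1 hd]) hZ)
  -- apply 3.6
  have hZ' : IsZGroup ↥(H ⊓ centralizer (((zpowers x).subgroupOf M : Subgroup M) : Set M)) := by
    have hinj : Function.Injective
        (M.subtype.comp (H ⊓ centralizer (((zpowers x).subgroupOf M : Subgroup M) : Set M)).subtype) :=
      M.subtype_injective.comp (Subgroup.subtype_injective _)
    let f : ↥(H ⊓ centralizer (((zpowers x).subgroupOf M : Subgroup M) : Set M)) →*
        ↥(alphaCore M ⊓ centralizer ({x} : Set G)) :=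
      (M.subtype.comp (Subgroup.subtype _)).codRestrict _ (by
        rintro ⟨y, hy1, hy2⟩
        refine ⟨⟨y, hy1, rfl⟩, ?_⟩
        refine Subgroup.mem_centralizer_iff.2 ?_
        rintro _ rfl
        have := Subgroup.mem_centralizer_iff.1 hy2 ⟨_, hxM⟩ (Subgroup.mem_subgroupOf.2
          (Subgroup.mem_zpowers _))
        exact congrArg Subtype.val this)
    haveI := hZ
    refine IsZGroup.of_injective (f := f) ?_
    intro a b hab
    have h1 := congrArg Subtype.val hab
    exact hinj h1
  have hres := Cfsg.Agent.S1444.result (G := M) (odd_sub hG M) H (K.subgroupOf M)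
    ((zpowers x).subgroupOf M) hHcop hC
    (by
      intro y hy
      rw [Subgroup.mem_subgroupOf] at hy ⊢
      exact (Subgroup.zpowers_le.2 hxK) hy)
    (by rw [H1.card_subgroupOf (Subgroup.zpowers_le.2 hxM), Nat.card_zpowers, hxo]; exact hq)
    hZ' p
  rw [← hHK] at hres
  apply plength_one_of_normal (N := H) ?_ hres
  rw [hHi, Nat.coprime_comm, Nat.Prime.coprime_iff_not_dvd hp.out]
  exact hA.2.2 p hp.out hpα

/-- BG 10.6 -/
theorem plength_one {H : Subgroup G} (hH : H ≠ ⊤) (p : ℕ) [hp : Fact p.Prime] :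
    PLengthLE p 1 H := by
  obtain ⟨M, hM, hHM⟩ := exists_coatom_ge hH
  refine plengthLE_of_le hHM ?_
  by_cases hr : PRankLE p 2 M
  · by_cases hd : p ∣ Nat.card M
    · haveI : Group.IsSolvable M := coatom_sol hG hM
      rw [plength_one_iff]
      exact (Cfsg.Agent.S1450.result (odd_sub hG M) p hd hr).2.2.2.2.2
    · exact H2.PLengthLE.of_not_dvd hd 1
  · exact alpha_plength hG hM ⟨hp.out, hr⟩

end Cfsg.Agent.OOT
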